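import Groth.Agent.CGrpEx.HomExact

/-! Double duality along short exact sequences of abelian sheaves. -/

set_option autoImplicit false

universe u

open CategoryTheory CategoryTheory.Limits Opposite

namespace Groth.Agent.CGrpEx.HomExact

variable {C : Type (u + 1)} [Category.{u} C] (J : GrothendieckTopology C)
variable {F F' : Sheaf J AddCommGrpCat.{u + 1}} (M : Sheaf J AddCommGrpCat.{u + 1})

theorem bidualMap_naturality (a : F ⟶ F') :
    a ≫ HomSh.bidualMap J F' M = HomSh.bidualMap J F M ≫ HomSh.homShMap J (HomSh.homShMap J a (𝟙 M)) (𝟙 M) := by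
  refine Sheaf.hom_ext (NatTrans.ext (funext fun ⟨X⟩ => AddCommGrpCat.ext fun s => ?_))
  refine Eq.trans ?_ (app_id_right J (HomSh.homShMap J a (𝟙 M)) M X (HomSh.evalSect J s)).symm
  refine Sheaf.hom_ext (NatTrans.ext (funext fun U => AddCommGrpCat.ext fun φ => ?_))
  obtain ⟨U⟩ := U
  show HomSh.ev J φ (F'.obj.map U.hom.op (a.hom.app (op X) s)) =
    HomSh.ev J ((HomSh.homShMap J a (𝟙 M)).hom.app (op U.left) φ) (F.obj.map U.hom.op s)
  erw [app_id_right J a M U.left φ]
  exact congrArg (HomSh.ev J φ) (ConcreteCategory.congr_hom (a.hom.naturality U.hom.op) s).symm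

theorem isIso_bidualMap_mid [HasInjectiveResolutions (Sheaf J AddCommGrpCat.{u + 1})]
    [EnoughInjectives (Sheaf J AddCommGrpCat.{u + 1})]
    {S : ShortComplex (Sheaf J AddCommGrpCat.{u + 1})} (hS : S.ShortExact)
    (hE : IsZero ((HomSh.extSh J S.X₃ 1).obj M))
    (h₁ : IsIso (HomSh.bidualMap J S.X₁ M)) (h₃ : IsIso (HomSh.bidualMap J S.X₃ M)) :
    IsIso (HomSh.bidualMap J S.X₂ M) := by
  obtain ⟨hex, hm⟩ := left_exact J hS M
  let D := ShortComplex.mk (HomSh.homShMap J S.g (𝟙 M)) (HomSh.homShMap J S.f (𝟙 M)) (zero_left J M)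
  haveI : Mono D.f := hm
  haveI : Epi D.g := epi_of_extSh_one J hS M hE
  have hD : D.ShortExact := { exact := hex }
  obtain ⟨hex', hm'⟩ := left_exact J hD M
  let DD := ShortComplex.mk (HomSh.homShMap J D.g (𝟙 M)) (HomSh.homShMap J D.f (𝟙 M)) (zero_left J M)
  let φ : S ⟶ DD :=
    { τ₁ := HomSh.bidualMap J S.X₁ M
      τ₂ := HomSh.bidualMap J S.X₂ M
      τ₃ := HomSh.bidualMap J S.X₃ M
      comm₁₂ := (bidualMap_naturality J M S.f).symm
      comm₂₃ := (bidualMap_naturality J M S.g).symm }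
  haveI := hS.epi_g
  haveI : Mono DD.f := hm'
  haveI : IsIso φ.τ₁ := h₁
  haveI : IsIso φ.τ₃ := h₃
  haveI : Epi DD.g := by
    have : Epi (φ.τ₂ ≫ DD.g) := by rw [φ.comm₂₃]; exact epi_comp _ _
    exact epi_of_epi φ.τ₂ DD.g
  exact ShortComplex.isIso₂_of_shortExact_of_isIso₁₃ φ hS { exact := hex' }

end Groth.Agent.CGrpEx.HomExact
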