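import Groth.Prelude.Def_CGrpSh2
import Groth.Agent.CGrpEx.ExtByZero
import Groth.Agent.EpsCmp.Hyper
import Mathlib.CategoryTheory.Sites.EpiMono
import Mathlib.CategoryTheory.Abelian.Refinements
import Mathlib.CategoryTheory.Preadditive.Injective.Preserves

/-! Exactness of the internal Hom of abelian sheaves in both variables. -/

set_option autoImplicit false

universe u

open CategoryTheory CategoryTheory.Limits Opposite

namespace Groth.Agent.CGrpEx.HomExact

variable {C : Type (u + 1)} [Category.{u} C] (J : GrothendieckTopology C)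

theorem exact_of_sections (S : ShortComplex (Sheaf J AddCommGrpCat.{u + 1}))
    (h : ∀ (X : Cᵒᵖ) (x : S.X₂.obj.obj X), S.g.hom.app X x = 0 → ∃ y, S.f.hom.app X y = x) : S.Exact := by
  rw [ShortComplex.exact_iff_kernel_ι_comp_cokernel_π_zero]
  refine Sheaf.hom_ext (NatTrans.ext (funext fun X => AddCommGrpCat.ext fun x => ?_))
  obtain ⟨y, hy⟩ := h X ((kernel.ι S.g).hom.app X x) congr(($(kernel.condition S.g)).hom.app X x)
  change (cokernel.π S.f).hom.app X ((kernel.ι S.g).hom.app X x) = 0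
  rw [← hy]
  exact congr(($(cokernel.condition S.f)).hom.app X y)

theorem mono_of_sections {F G : Sheaf J AddCommGrpCat.{u + 1}} (a : F ⟶ G)
    (h : ∀ (X : Cᵒᵖ) (x : F.obj.obj X), a.hom.app X x = 0 → x = 0) : Mono a := by
  refine Preadditive.mono_of_cancel_zero a fun {Z} g hg =>
    Sheaf.hom_ext (NatTrans.ext (funext fun X => AddCommGrpCat.ext fun x => ?_))
  exact h X _ congr(($hg).hom.app X x)

instance epi_overPullback (T : C) {F G : Sheaf J AddCommGrpCat.{u + 1}} (a : F ⟶ G) [Epi a] :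
    Epi ((J.overPullback AddCommGrpCat.{u + 1} T).map a) := by
  have ha : Sheaf.IsLocallySurjective a := (Sheaf.isLocallySurjective_iff_epi' _ _).2 inferInstance
  have : Sheaf.IsLocallySurjective ((J.overPullback AddCommGrpCat.{u + 1} T).map a) := ⟨fun {U} s => by
    refine (GrothendieckTopology.mem_over_iff _ _).2
      (J.superset_covering ?_ (Presheaf.imageSieve_mem J a.hom (U := op U.left) s))
    rintro W g ⟨t, ht⟩
    exact (Sieve.overEquiv_iff _ _).2 ⟨t, ht⟩⟩
  exact (Sheaf.isLocallySurjective_iff_epi' _ _).1 this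

instance preservesMono_overPullback (T : C) :
    (J.overPullback AddCommGrpCat.{u + 1} T).PreservesMonomorphisms :=
  Functor.preservesMonomorphisms_of_isRightAdjoint _

theorem shortExact_overPullback (T : C) {S : ShortComplex (Sheaf J AddCommGrpCat.{u + 1})} (hS : S.ShortExact) :
    (S.map (J.overPullback AddCommGrpCat.{u + 1} T)).ShortExact :=
  haveI := hS.mono_f
  haveI := hS.epi_g
  haveI : Mono (S.map (J.overPullback AddCommGrpCat.{u + 1} T)).f :=
    inferInstanceAs (Mono ((J.overPullback AddCommGrpCat.{u + 1} T).map S.f))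
  haveI : Epi (S.map (J.overPullback AddCommGrpCat.{u + 1} T)).g := epi_overPullback J T _
  { exact := ShortComplex.exact_of_f_is_kernel _
      (isLimitForkMapOfIsLimit' (J.overPullback AddCommGrpCat.{u + 1} T) S.zero hS.fIsKernel) }

theorem injective_over (T : C) (I : Sheaf J AddCommGrpCat.{u + 1}) [Injective I] :
    Injective ((J.overPullback AddCommGrpCat.{u + 1} T).obj I) := by
  haveI := Groth.Agent.CGrpEx.ExtByZero.preservesMonomorphisms_pullback T J
  haveI := Functor.preservesInjectiveObjects_of_adjunction_of_preservesMonomorphisms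
    ((Over.forget T).sheafAdjunctionContinuous AddCommGrpCat.{u + 1} (J.over T) J)
  exact ((Over.forget T).sheafPushforwardContinuous AddCommGrpCat.{u + 1} (J.over T) J).injective_obj I

variable {F F' : Sheaf J AddCommGrpCat.{u + 1}}

theorem app_id_right (a : F' ⟶ F) (M : Sheaf J AddCommGrpCat.{u + 1}) (X : C) (y : F.over X ⟶ M.over X) :
    (HomSh.homShMap J a (𝟙 M)).hom.app (op X) y = (J.overPullback AddCommGrpCat.{u + 1} X).map a ≫ y := by
  change (J.overPullback AddCommGrpCat.{u + 1} X).map a ≫ y ≫ (J.overPullback AddCommGrpCat.{u + 1} X).map (𝟙 M) = _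
  rw [CategoryTheory.Functor.map_id]
  exact congrArg (_ ≫ ·) (Category.comp_id y)

theorem app_id_left (b : F' ⟶ F) (A : Sheaf J AddCommGrpCat.{u + 1}) (X : C) (y : A.over X ⟶ F'.over X) :
    (HomSh.homShMap J (𝟙 A) b).hom.app (op X) y = y ≫ (J.overPullback AddCommGrpCat.{u + 1} X).map b := by
  change (J.overPullback AddCommGrpCat.{u + 1} X).map (𝟙 A) ≫ y ≫ (J.overPullback AddCommGrpCat.{u + 1} X).map b = _
  rw [CategoryTheory.Functor.map_id]
  exact Category.id_comp _

theorem epi_homShMap_injective (a : F' ⟶ F) [Mono a] (I : Sheaf J AddCommGrpCat.{u + 1}) [Injective I] :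
    Epi (HomSh.homShMap J a (𝟙 I)) := by
  have : Sheaf.IsLocallySurjective (HomSh.homShMap J a (𝟙 I)) := ⟨fun {T} s => by
    haveI := injective_over J T I
    haveI : Mono ((J.overPullback AddCommGrpCat.{u + 1} T).map a) := Functor.map_mono _ _
    refine J.superset_covering ?_ (J.top_mem T)
    rintro W g -
    refine ⟨(HomSh.homSh J F I).obj.map g.op
      (Injective.factorThru (show F'.over T ⟶ I.over T from s) ((J.overPullback AddCommGrpCat.{u + 1} T).map a)), ?_⟩
    refine (ConcreteCategory.congr_hom ((HomSh.homShMap J a (𝟙 I)).hom.naturality g.op) _).trans ?_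
    refine congrArg (fun z => (HomSh.homSh J F' I).obj.map g.op z) ?_
    exact (app_id_right J a I T _).trans (Injective.comp_factorThru _ _)⟩
  exact (Sheaf.isLocallySurjective_iff_epi' _ _).1 this

variable {S : ShortComplex (Sheaf J AddCommGrpCat.{u + 1})} (hS : S.ShortExact) (M : Sheaf J AddCommGrpCat.{u + 1})
include hS

theorem right_exact_mono (A : Sheaf J AddCommGrpCat.{u + 1}) :
    (S.map (HomSh.homShFunctor J A)).Exact ∧ Mono ((HomSh.homShFunctor J A).map S.f) := by
  have h := fun T => shortExact_overPullback J T hS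
  refine ⟨exact_of_sections J _ fun X x hx => ?_, mono_of_sections J _ fun X x hx => ?_⟩
  · haveI := (h X.unop).mono_f
    obtain ⟨X⟩ := X
    have hx' := (app_id_left J S.g A X x).symm.trans hx
    exact ⟨(h X).exact.lift _ hx', (app_id_left J S.f A X _).trans ((h X).exact.lift_f _ hx')⟩
  · obtain ⟨X⟩ := X
    haveI := (h X).mono_f
    have hx' := (app_id_left J S.f A X x).symm.trans hx
    exact (cancel_mono (S.map (J.overPullback AddCommGrpCat.{u + 1} X)).f).1 (hx'.trans zero_comp.symm)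

omit hS in
theorem zero_left : HomSh.homShMap J S.g (𝟙 M) ≫ HomSh.homShMap J S.f (𝟙 M) = 0 :=
  (((HomSh.homShBi J).flip.obj M).map_comp S.g.op S.f.op).symm.trans
    ((congrArg ((HomSh.homShBi J).flip.obj M).map (show S.g.op ≫ S.f.op = 0 by rw [← op_comp, S.zero, op_zero])).trans
      (CategoryTheory.Functor.map_zero _ _ _))

/-- The dualised complex `Hom(X₃, M) → Hom(X₂, M) → Hom(X₁, M)`. -/
theorem left_exact : (ShortComplex.mk (HomSh.homShMap J S.g (𝟙 M)) (HomSh.homShMap J S.f (𝟙 M)) (zero_left J M)).Exact ∧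
    Mono (HomSh.homShMap J S.g (𝟙 M)) := by
  have h := fun T => shortExact_overPullback J T hS
  refine ⟨exact_of_sections J _ fun X x hx => ?_, mono_of_sections J _ fun X x hx => ?_⟩
  · obtain ⟨X⟩ := X
    haveI := (h X).epi_g
    have hx' := (app_id_right J S.f M X x).symm.trans hx
    exact ⟨(h X).exact.desc _ hx', (app_id_right J S.g M X _).trans ((h X).exact.g_desc _ hx')⟩
  · obtain ⟨X⟩ := X
    haveI := (h X).epi_g
    have hx' := (app_id_right J S.g M X x).symm.trans hx
    exact (cancel_epi (S.map (J.overPullback AddCommGrpCat.{u + 1} X)).g).1 (hx'.trans comp_zero.symm)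

omit hS in
instance preservesFiniteLimits_homShFunctor (A : Sheaf J AddCommGrpCat.{u + 1}) :
    PreservesFiniteLimits (HomSh.homShFunctor J A) :=
  (Functor.preservesFiniteLimits_iff_forall_exact_map_and_mono _).2 fun _ hT => right_exact_mono J hT A

omit hS in
theorem homShMap_comm {X Y : Sheaf J AddCommGrpCat.{u + 1}} (a : X ⟶ Y) {P Q : Sheaf J AddCommGrpCat.{u + 1}} (b : P ⟶ Q) :
    HomSh.homShMap J (𝟙 Y) b ≫ HomSh.homShMap J a (𝟙 Q) = HomSh.homShMap J a (𝟙 P) ≫ HomSh.homShMap J (𝟙 X) b :=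
  ((HomSh.homShBi J).map a.op).naturality b

omit hS in
theorem zero_right {R : ShortComplex (Sheaf J AddCommGrpCat.{u + 1})} (A : Sheaf J AddCommGrpCat.{u + 1}) :
    HomSh.homShMap J (𝟙 A) R.f ≫ HomSh.homShMap J (𝟙 A) R.g = 0 :=
  (R.map (HomSh.homShFunctor J A)).zero

/-- `Hom(A, -)` of a short exact sequence. -/
theorem right_exact' (A : Sheaf J AddCommGrpCat.{u + 1}) :
    (ShortComplex.mk (HomSh.homShMap J (𝟙 A) S.f) (HomSh.homShMap J (𝟙 A) S.g) (zero_right J A)).Exact ∧
      Mono (HomSh.homShMap J (𝟙 A) S.f) :=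
  right_exact_mono J hS A

omit hS in
theorem epi_map_of_eq {B : Type*} [Category B] [CategoryTheory.Abelian B] [HasInjectiveResolutions B] {G E : B ⥤ B} [G.Additive]
    [PreservesFiniteLimits G] (e : E = G.rightDerived 1) {T : ShortComplex B} (hT : T.ShortExact) (h : IsZero (E.obj T.X₁)) :
    Epi (G.map T.g) := by
  subst e
  exact Groth.Agent.EpsCmp.Hyper.epi_map G hT h

theorem epi_right0 [HasInjectiveResolutions (Sheaf J AddCommGrpCat.{u + 1})] (A : Sheaf J AddCommGrpCat.{u + 1})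
    (hE : IsZero ((HomSh.extSh J A 1).obj S.X₁)) : Epi ((HomSh.homShFunctor J A).map S.g) :=
  epi_map_of_eq (HomSh.extSh_def J A 1) hS hE

theorem epi_right [HasInjectiveResolutions (Sheaf J AddCommGrpCat.{u + 1})] (A : Sheaf J AddCommGrpCat.{u + 1})
    (hE : IsZero ((HomSh.extSh J A 1).obj S.X₁)) : Epi (HomSh.homShMap J (𝟙 A) S.g) :=
  epi_right0 J hS A hE

/-- If `𝓔xt¹(X₃, M) = 0` then `Hom(X₂, M) → Hom(X₁, M)` is an epimorphism. -/
theorem epi_of_extSh_one [HasInjectiveResolutions (Sheaf J AddCommGrpCat.{u + 1})]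
    [EnoughInjectives (Sheaf J AddCommGrpCat.{u + 1})]
    (hE : IsZero ((HomSh.extSh J S.X₃ 1).obj M)) : Epi (HomSh.homShMap J S.f (𝟙 M)) := by
  obtain ⟨⟨I, _, j, _⟩⟩ := EnoughInjectives.presentation M
  let R := ShortComplex.mk j (cokernel.π j) (cokernel.condition j)
  have hR : R.ShortExact := { exact := ShortComplex.exact_cokernel j }
  haveI : Epi (HomSh.homShMap J (𝟙 S.X₃) R.g) := epi_right J hR S.X₃ hE
  haveI := hS.mono_f
  haveI : Epi (HomSh.homShMap J S.f (𝟙 I)) := epi_homShMap_injective J S.f I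
  rw [epi_iff_surjective_up_to_refinements]
  intro A χ
  obtain ⟨A₁, π, hπ, ψ, hψ⟩ := surjective_up_to_refinements_of_epi (HomSh.homShMap J S.f (𝟙 I))
    (χ ≫ HomSh.homShMap J (𝟙 S.X₁) j)
  have h0 : (ψ ≫ HomSh.homShMap J (𝟙 S.X₂) R.g) ≫ HomSh.homShMap J S.f (𝟙 R.X₃) = 0 := by
    rw [Category.assoc, homShMap_comm J S.f R.g, ← Category.assoc, ← hψ, Category.assoc, Category.assoc,
      zero_right J S.X₁ (R := R), comp_zero, comp_zero]
  obtain ⟨hex, hm⟩ := left_exact J hS R.X₃
  haveI := hm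
  obtain ⟨A₂, π', hπ', θ, hθ⟩ := surjective_up_to_refinements_of_epi (HomSh.homShMap J (𝟙 S.X₃) R.g)
    (hex.lift _ h0)
  have hr := fun X => right_exact' J hR X
  haveI : Mono (HomSh.homShMap J (𝟙 S.X₂) R.f) := (hr S.X₂).2
  haveI : Mono (HomSh.homShMap J (𝟙 S.X₁) R.f) := (hr S.X₁).2
  let ψ' := π' ≫ ψ - θ ≫ HomSh.homShMap J S.g (𝟙 I)
  have h1 : ψ' ≫ HomSh.homShMap J (𝟙 S.X₂) R.g = 0 := by
    have hl : hex.lift _ h0 ≫ HomSh.homShMap J S.g (𝟙 R.X₃) = ψ ≫ HomSh.homShMap J (𝟙 S.X₂) R.g :=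
      hex.lift_f _ _
    simp only [ψ', Preadditive.sub_comp, Category.assoc]
    rw [← homShMap_comm J S.g R.g, ← Category.assoc θ, ← hθ, Category.assoc, hl, sub_self]
  refine ⟨A₂, π' ≫ π, epi_comp _ _, (hr S.X₂).1.lift ψ' h1, ?_⟩
  have hl2 : (hr S.X₂).1.lift ψ' h1 ≫ HomSh.homShMap J (𝟙 S.X₂) R.f = ψ' := (hr S.X₂).1.lift_f ψ' h1
  rw [← cancel_mono (HomSh.homShMap J (𝟙 S.X₁) R.f), Category.assoc, Category.assoc, Category.assoc,
    ← homShMap_comm J S.f R.f, ← Category.assoc ((hr S.X₂).1.lift ψ' h1), hl2]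
  change π' ≫ π ≫ χ ≫ HomSh.homShMap J (𝟙 S.X₁) j = ψ' ≫ HomSh.homShMap J S.f (𝟙 I)
  rw [hψ, Preadditive.sub_comp, Category.assoc, Category.assoc, zero_left J I, comp_zero, sub_zero]

end Groth.Agent.CGrpEx.HomExact
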